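import Groth.Agent.SHTensor.Bijective
import Mathlib.AlgebraicGeometry.Morphisms.QuasiFinite
import Mathlib.AlgebraicGeometry.Morphisms.Integral

/-!
Maps of strict local rings along integral and along locally quasi-finite morphisms are integral.
-/

set_option autoImplicit false
set_option backward.isDefEq.respectTransparency false
set_option backward.isDefEq.respectTransparency.types false
set_option linter.style.haveILetI false
set_option maxHeartbeats 1000000

universe u

open CategoryTheory AlgebraicGeometry IsLocalRing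

namespace Groth.Agent.SHBaseChangeLib

/-- The algebra condition on affine charts. -/
def IsIndQuasiFinite {R S : Type u} [CommRing R] [CommRing S] (φ : R →+* S) : Prop :=
  letI := φ.toAlgebra
  ∀ t : Finset S, ∃ B₀ : Subalgebra R S, (↑t : Set S) ⊆ ↑B₀ ∧ Algebra.FiniteType R ↥B₀ ∧ Algebra.QuasiFinite R ↥B₀

theorem isIntegral_strict_of_chart {S S' : Scheme.{u}} (g : S' ⟶ S) (s' : S') (U : S.Opens) (hU : IsAffineOpen U)
    (U' : S'.Opens) (hU' : IsAffineOpen U') (e : U' ≤ g ⁻¹ᵁ U) (hs' : s' ∈ U')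
    (hind : IsIndQuasiFinite (g.appLE U U' e).hom)
    (RS : Type u) [CommRing RS] [IsLocalRing RS] [Algebra (S.presheaf.stalk (g s')) RS]
    [IsLocalHom (algebraMap (S.presheaf.stalk (g s')) RS)] [_root_.Hensel.IsStrictHenselization (S.presheaf.stalk (g s')) RS]
    (RS' : Type u) [CommRing RS'] [IsLocalRing RS'] [Algebra (S'.presheaf.stalk s') RS']
    [IsLocalHom (algebraMap (S'.presheaf.stalk s') RS')] [_root_.Hensel.IsStrictHenselization (S'.presheaf.stalk s') RS']
    [Algebra RS RS'] [IsLocalHom (algebraMap RS RS')]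
    (hc : (algebraMap RS RS').comp (algebraMap (S.presheaf.stalk (g s')) RS) =
      (algebraMap (S'.presheaf.stalk s') RS').comp (g.stalkMap s').hom) :
    Algebra.IsIntegral RS RS' := by
  let R0 := S.presheaf.stalk (g s')
  let S0 := S'.presheaf.stalk s'
  letI : Algebra Γ(S, U) R0 := (S.presheaf.germ U (g s') (e hs')).hom.toAlgebra
  letI : Algebra Γ(S', U') S0 := (S'.presheaf.germ U' s' hs').hom.toAlgebra
  haveI : IsLocalization.AtPrime R0 (hU.primeIdealOf ⟨g s', e hs'⟩).asIdeal := hU.isLocalization_stalk ⟨g s', e hs'⟩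
  haveI : IsLocalization.AtPrime S0 (hU'.primeIdealOf ⟨s', hs'⟩).asIdeal := hU'.isLocalization_stalk ⟨s', hs'⟩
  letI : Algebra Γ(S, U) Γ(S', U') := (g.appLE U U' e).hom.toAlgebra
  letI : Algebra Γ(S, U) RS := ((algebraMap R0 RS).comp (algebraMap Γ(S, U) R0)).toAlgebra
  haveI : IsScalarTower Γ(S, U) R0 RS := IsScalarTower.of_algebraMap_eq fun _ => rfl
  letI : Algebra Γ(S', U') RS' := ((algebraMap S0 RS').comp (algebraMap Γ(S', U') S0)).toAlgebra
  haveI : IsScalarTower Γ(S', U') S0 RS' := IsScalarTower.of_algebraMap_eq fun _ => rfl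
  letI : Algebra Γ(S, U) RS' := ((algebraMap Γ(S', U') RS').comp (algebraMap Γ(S, U) Γ(S', U'))).toAlgebra
  haveI : IsScalarTower Γ(S, U) Γ(S', U') RS' := IsScalarTower.of_algebraMap_eq fun _ => rfl
  haveI : IsScalarTower Γ(S, U) RS RS' := IsScalarTower.of_algebraMap_eq fun a => by
    show algebraMap S0 RS' ((S'.presheaf.germ U' s' hs').hom ((g.appLE U U' e).hom a)) =
      algebraMap RS RS' (algebraMap R0 RS ((S.presheaf.germ U (g s') (e hs')).hom a))
    refine Eq.trans ?_ (RingHom.congr_fun hc ((S.presheaf.germ U (g s') (e hs')).hom a)).symm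
    refine congrArg (algebraMap S0 RS') ?_
    have h1 := Scheme.Hom.germ_stalkMap g U s' (e hs')
    have h2 : g.appLE U U' e ≫ S'.presheaf.germ U' s' hs' = g.app U ≫ S'.presheaf.germ (g ⁻¹ᵁ U) s' (e hs') := by
      rw [Scheme.Hom.appLE, Category.assoc, TopCat.Presheaf.germ_res]
    exact (congrArg (fun m => m.hom a) (h2.trans h1.symm))
  exact SHTensor.isIntegral_of_strict Γ(S, U) Γ(S', U') (hU.primeIdealOf ⟨g s', e hs'⟩).asIdeal
    (hU'.primeIdealOf ⟨s', hs'⟩).asIdeal R0 S0 RS RS' hind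

/-- The form with the image point given up to equality. -/
theorem isIntegral_strict_of_chart' {S S' : Scheme.{u}} (g : S' ⟶ S) (s' : S') (s : S) (hs : g s' = s)
    (hchart : ∃ (U : S.Opens) (U' : S'.Opens) (e : U' ≤ g ⁻¹ᵁ U), IsAffineOpen U ∧ IsAffineOpen U' ∧ s' ∈ U' ∧
      IsIndQuasiFinite (g.appLE U U' e).hom)
    (RS : Type u) [CommRing RS] [IsLocalRing RS] [Algebra (S.presheaf.stalk s) RS]
    [IsLocalHom (algebraMap (S.presheaf.stalk s) RS)] [_root_.Hensel.IsStrictHenselization (S.presheaf.stalk s) RS]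
    (RS' : Type u) [CommRing RS'] [IsLocalRing RS'] [Algebra (S'.presheaf.stalk s') RS']
    [IsLocalHom (algebraMap (S'.presheaf.stalk s') RS')] [_root_.Hensel.IsStrictHenselization (S'.presheaf.stalk s') RS']
    [Algebra RS RS'] [IsLocalHom (algebraMap RS RS')]
    (hc : (algebraMap RS RS').comp (algebraMap (S.presheaf.stalk s) RS) =
      (algebraMap (S'.presheaf.stalk s') RS').comp
        ((S.presheaf.stalkCongr (Inseparable.of_eq hs.symm)).hom ≫ g.stalkMap s').hom) :
    Algebra.IsIntegral RS RS' := by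
  obtain ⟨U, U', e, hU, hU', hsU, hind⟩ := hchart
  subst hs
  refine isIntegral_strict_of_chart g s' U hU U' hU' e hsU hind RS RS' (hc.trans ?_)
  simp [TopCat.Presheaf.stalkCongr]

theorem isIndQuasiFinite_of_isIntegral {R S : Type u} [CommRing R] [CommRing S] (φ : R →+* S) (hφ : φ.IsIntegral) :
    IsIndQuasiFinite φ := by
  letI := φ.toAlgebra
  haveI : Algebra.IsIntegral R S := ⟨hφ⟩
  intro t
  haveI : Module.Finite R ↥(Algebra.adjoin R (t : Set S)) :=
    Algebra.finite_adjoin_of_finite_of_isIntegral (Finset.finite_toSet t) fun x _ => Algebra.IsIntegral.isIntegral x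
  exact ⟨Algebra.adjoin R (t : Set S), Algebra.subset_adjoin, inferInstance, inferInstance⟩

theorem isIndQuasiFinite_of_quasiFinite {R S : Type u} [CommRing R] [CommRing S] (φ : R →+* S) (hft : φ.FiniteType)
    (hqf : φ.QuasiFinite) : IsIndQuasiFinite φ := by
  letI := φ.toAlgebra
  haveI : Algebra.FiniteType R S := hft
  haveI : Algebra.QuasiFinite R S := hqf
  intro t
  refine ⟨⊤, fun _ _ => Algebra.mem_top, Algebra.FiniteType.equiv inferInstance Subalgebra.topEquiv.symm, ?_⟩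
  exact Algebra.QuasiFinite.of_surjective_algHom (Subalgebra.topEquiv (R := R) (A := S)).symm.toAlgHom
    (Subalgebra.topEquiv (R := R) (A := S)).symm.surjective

theorem exists_chart_integral {S S' : Scheme.{u}} (g : S' ⟶ S) [IsIntegralHom g] (s' : S') :
    ∃ (U : S.Opens) (U' : S'.Opens) (e : U' ≤ g ⁻¹ᵁ U), IsAffineOpen U ∧ IsAffineOpen U' ∧ s' ∈ U' ∧
      IsIndQuasiFinite (g.appLE U U' e).hom := by
  obtain ⟨_, ⟨U, hU, rfl⟩, hsU, -⟩ :=
    S.isBasis_affineOpens.exists_subset_of_mem_open (Set.mem_univ (g s')) isOpen_univ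
  refine ⟨U, g ⁻¹ᵁ U, le_rfl, hU, hU.preimage g, hsU, isIndQuasiFinite_of_isIntegral _ ?_⟩
  rw [Scheme.Hom.appLE_eq_app]
  exact g.isIntegral_app U hU

theorem exists_chart_quasiFinite {S S' : Scheme.{u}} (g : S' ⟶ S) [LocallyOfFiniteType g] [LocallyQuasiFinite g]
    (s' : S') :
    ∃ (U : S.Opens) (U' : S'.Opens) (e : U' ≤ g ⁻¹ᵁ U), IsAffineOpen U ∧ IsAffineOpen U' ∧ s' ∈ U' ∧
      IsIndQuasiFinite (g.appLE U U' e).hom := by
  obtain ⟨_, ⟨U, hU, rfl⟩, hsU, -⟩ :=
    S.isBasis_affineOpens.exists_subset_of_mem_open (Set.mem_univ (g s')) isOpen_univ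
  obtain ⟨_, ⟨U', hU', rfl⟩, hsU', hle⟩ :=
    S'.isBasis_affineOpens.exists_subset_of_mem_open (show s' ∈ g ⁻¹ᵁ U from hsU) (g ⁻¹ᵁ U).isOpen
  exact ⟨U, U', hle, hU, hU', hsU', isIndQuasiFinite_of_quasiFinite _
    (HasRingHomProperty.appLE @LocallyOfFiniteType g ‹_› ⟨U, hU⟩ ⟨U', hU'⟩ hle)
    (HasRingHomProperty.appLE @LocallyQuasiFinite g ‹_› ⟨U, hU⟩ ⟨U', hU'⟩ hle)⟩

end Groth.Agent.SHBaseChangeLib
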