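import Groth.Prelude.Def_Hensel
import Mathlib.FieldTheory.IsSepClosed

/-!
Choice of compatible maps between strict henselisations.
-/

set_option autoImplicit false
set_option linter.unusedSectionVars false
set_option linter.style.haveILetI false

universe u

open IsLocalRing

namespace Groth.Agent.SHBaseChangeLib

variable {A : Type u} [CommRing A] [IsLocalRing A] {RA : Type u} [CommRing RA] [IsLocalRing RA] [Algebra A RA]
  [IsLocalHom (algebraMap A RA)] [hA : _root_.Hensel.IsStrictHenselization A RA]

theorem exists_map_to_henselian {T : Type u} [CommRing T] [HenselianLocalRing T] [IsSepClosed (ResidueField T)]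
    (φ : A →+* T) [IsLocalHom φ] : ∃ g : RA →+* T, g.comp (algebraMap A RA) = φ ∧ IsLocalHom g := by
  letI : Algebra (ResidueField A) (ResidueField T) := (ResidueField.map φ).toAlgebra
  haveI := hA.isSepClosure.separable
  let τ : ResidueField RA →ₐ[ResidueField A] ResidueField T := IsSepClosed.lift
  obtain ⟨g, ⟨hg, hr⟩, -⟩ := hA.universal T φ τ.toRingHom (RingHom.ext fun x => τ.commutes x)
  refine ⟨g, hg, ⟨fun a ha => ?_⟩⟩
  rw [← residue_ne_zero_iff_isUnit] at ha ⊢
  exact fun h0 => ha (by rw [hr, h0, map_zero])

/-- A separably closed field contains every element of an overfield which is separable over a subfield. -/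
theorem mem_range_of_isSeparable {k L M : Type u} [Field k] [Field L] [Field M] [IsSepClosed L] [Algebra k L]
    [Algebra k M] (i : L →ₐ[k] M) {m : M} (hm : IsSeparable k m) : m ∈ Set.range i := by
  letI : Algebra L M := i.toRingHom.toAlgebra
  haveI : IsScalarTower k L M := IsScalarTower.of_algebraMap_eq fun x => (i.commutes x).symm
  have h : IsSeparable L m := hm.tower_top L
  have hd := IsSepClosed.degree_eq_one_of_irreducible L (minpoly.irreducible h.isIntegral) h
  exact minpoly.mem_range_of_degree_eq_one L m hd

/-- A map of local rings into a strict henselisation, through a map of strict henselisations. -/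
theorem exists_map_factor {B : Type u} [CommRing B] [IsLocalRing B] {RB : Type u} [CommRing RB] [IsLocalRing RB]
    [Algebra B RB] [IsLocalHom (algebraMap B RB)] [hB : _root_.Hensel.IsStrictHenselization B RB]
    {T : Type u} [CommRing T] [HenselianLocalRing T]
    (u : A →+* B) [IsLocalHom u] (σ : RB →+* T) [IsLocalHom σ]
    (k : RA →+* T) [IsLocalHom k] (hk : k.comp (algebraMap A RA) = (σ.comp (algebraMap B RB)).comp u) :
    ∃ ψ : RA →+* RB, ψ.comp (algebraMap A RA) = (algebraMap B RB).comp u ∧ IsLocalHom ψ ∧ σ.comp ψ = k := by
  letI : Algebra (ResidueField A) (ResidueField RB) := (ResidueField.map ((algebraMap B RB).comp u)).toAlgebra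
  letI : Algebra (ResidueField A) (ResidueField T) := (ResidueField.map ((σ.comp (algebraMap B RB)).comp u)).toAlgebra
  haveI := hA.isSepClosure.separable
  haveI : IsSepClosed (ResidueField RB) := hB.isSepClosure.sep_closed
  let i : ResidueField RB →ₐ[ResidueField A] ResidueField T :=
    { ResidueField.map σ with
      commutes' := fun x => by
        obtain ⟨a, rfl⟩ := residue_surjective (R := A) x
        rfl }
  let kk : ResidueField RA →ₐ[ResidueField A] ResidueField T :=
    { ResidueField.map k with
      commutes' := fun x => by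
        obtain ⟨a, rfl⟩ := residue_surjective (R := A) x
        exact congrArg (residue T) (RingHom.congr_fun hk a) }
  have hmem : ∀ x, kk x ∈ Set.range i := fun x =>
    mem_range_of_isSeparable i (IsSeparable.map kk kk.toRingHom.injective (Algebra.IsSeparable.isSeparable (ResidueField A) x))
  choose τ hτ using hmem
  have hi : Function.Injective i := i.toRingHom.injective
  let τ' : ResidueField RA →+* ResidueField RB :=
    { toFun := τ
      map_one' := hi (by rw [hτ, map_one, map_one])
      map_mul' := fun a b => hi (by rw [hτ, map_mul, map_mul, hτ, hτ])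
      map_zero' := hi (by rw [hτ, map_zero, map_zero])
      map_add' := fun a b => hi (by rw [hτ, map_add, map_add, hτ, hτ]) }
  haveI : HenselianLocalRing RB := hB.henselian
  haveI : IsLocalHom ((algebraMap B RB).comp u) := RingHom.isLocalHom_comp _ _
  obtain ⟨ψ, ⟨hψ, hr⟩, -⟩ := hA.universal RB ((algebraMap B RB).comp u) τ' (RingHom.ext fun x => hi (by
    obtain ⟨a, rfl⟩ := residue_surjective (R := A) x
    show i (τ _) = i _
    rw [hτ]
    exact congrArg (residue T) (RingHom.congr_fun hk a)))
  haveI hψl : IsLocalHom ψ := ⟨fun a ha => by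
    rw [← residue_ne_zero_iff_isUnit] at ha ⊢
    exact fun h0 => ha (by rw [hr, h0, map_zero])⟩
  refine ⟨ψ, hψ, hψl, ?_⟩
  haveI : IsLocalHom (σ.comp ψ) := RingHom.isLocalHom_comp _ _
  haveI : IsLocalHom ((σ.comp (algebraMap B RB)).comp u) := by
    haveI : IsLocalHom (σ.comp (algebraMap B RB)) := RingHom.isLocalHom_comp _ _
    exact RingHom.isLocalHom_comp _ _
  obtain ⟨g₀, -, huniq⟩ := hA.universal T ((σ.comp (algebraMap B RB)).comp u) kk.toRingHom (RingHom.ext fun x => kk.commutes x)
  exact (huniq (σ.comp ψ) ⟨by rw [RingHom.comp_assoc, hψ, RingHom.comp_assoc], fun x => by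
    show residue T (σ (ψ x)) = _
    rw [show residue T (σ (ψ x)) = i (residue RB (ψ x)) from rfl, hr]
    exact hτ _⟩).trans (huniq k ⟨hk, fun x => rfl⟩).symm

end Groth.Agent.SHBaseChangeLib
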