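import Groth.Agent.SHBaseChangeLib.Stalk
import Groth.Agent.SHBaseChangeLib.Maps
import Groth.Agent.SHBaseChangeLib.Chart
import Groth.Agent.GeomFacLib.Loc
import Groth.Agent.S0537
import Groth.Agent.CdpLib.Geom
import Groth.Prelude.Def_EtRestW

/-!
Varieties of vanishing cycles after an integral or locally quasi-finite base change.
-/

set_option autoImplicit false
set_option backward.isDefEq.respectTransparency false
set_option backward.isDefEq.respectTransparency.types false
set_option linter.style.haveILetI false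
set_option maxHeartbeats 1000000

universe u

open CategoryTheory CategoryTheory.Limits AlgebraicGeometry IsLocalRing
open scoped TensorProduct

namespace Groth.Agent.SHBaseChangeLib

/-- A strict henselisation of a local ring `R₀ = R_p` is one of `Localization.AtPrime p`. -/
theorem exists_localization_algebra {R : Type u} [CommRing R] (p : Ideal R) [p.IsPrime] (R₀ : Type u) [CommRing R₀]
    [IsLocalRing R₀] [Algebra R R₀] [IsLocalization.AtPrime R₀ p] (T : Type u) [CommRing T] [IsLocalRing T]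
    [Algebra R₀ T] [IsLocalHom (algebraMap R₀ T)] [Hensel.IsStrictHenselization R₀ T] [Algebra R T]
    [IsScalarTower R R₀ T] :
    ∃ (_ : Algebra (Localization.AtPrime p) T) (_ : IsLocalHom (algebraMap (Localization.AtPrime p) T)),
      Hensel.IsStrictHenselization (Localization.AtPrime p) T ∧ IsScalarTower R (Localization.AtPrime p) T := by
  let e : Localization.AtPrime p ≃ₐ[R] R₀ := IsLocalization.algEquiv p.primeCompl _ _
  letI al : Algebra (Localization.AtPrime p) T := ((algebraMap R₀ T).comp e.toRingEquiv.toRingHom).toAlgebra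
  haveI hel : IsLocalHom e.toRingEquiv.toRingHom := ⟨fun r hr => (MulEquiv.isUnit_map e.toRingEquiv.toMulEquiv).1 hr⟩
  haveI hl : IsLocalHom (algebraMap (Localization.AtPrime p) T) := RingHom.isLocalHom_comp _ _
  refine ⟨al, hl, GeomFacLib.isStrictHenselization_of_ringEquiv e.toRingEquiv.symm fun r => ?_, ?_⟩
  · exact congrArg (algebraMap R₀ T) (e.apply_symm_apply r)
  · exact IsScalarTower.of_algebraMap_eq fun r =>
      (IsScalarTower.algebraMap_apply R R₀ T r).trans (congrArg (algebraMap R₀ T) (e.commutes r)).symm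

/-- The tensor product formula for strict henselisations of local rings, with localisations up to isomorphism. -/
theorem bijective_lift_strict (A B C : Type u) [CommRing A] [CommRing B] [CommRing C] [IsLocalRing A] [IsLocalRing B]
    [IsLocalRing C] [Algebra A B] [Algebra A C]
    (pD : Ideal (B ⊗[A] C)) [pD.IsPrime]
    (O : Type u) [CommRing O] [IsLocalRing O] [Algebra (B ⊗[A] C) O] [IsLocalization.AtPrime O pD]
    (Ash : Type u) [CommRing Ash] [IsLocalRing Ash] [Algebra A Ash] [IsLocalHom (algebraMap A Ash)]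
    [Hensel.IsStrictHenselization A Ash]
    (Bsh : Type u) [CommRing Bsh] [IsLocalRing Bsh] [Algebra B Bsh] [IsLocalHom (algebraMap B Bsh)]
    [Hensel.IsStrictHenselization B Bsh]
    [Algebra Ash Bsh] [IsLocalHom (algebraMap Ash Bsh)] [Algebra.IsIntegral Ash Bsh]
    (Csh : Type u) [CommRing Csh] [IsLocalRing Csh] [Algebra C Csh] [IsLocalHom (algebraMap C Csh)]
    [Hensel.IsStrictHenselization C Csh] [Algebra Ash Csh] [IsLocalHom (algebraMap Ash Csh)]
    (Dsh : Type u) [CommRing Dsh] [IsLocalRing Dsh] [Algebra O Dsh] [IsLocalHom (algebraMap O Dsh)]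
    [Hensel.IsStrictHenselization O Dsh] [Algebra Bsh Dsh] [IsLocalHom (algebraMap Bsh Dsh)]
    [Algebra Csh Dsh] [IsLocalHom (algebraMap Csh Dsh)]
    [Algebra Ash Dsh] [IsScalarTower Ash Bsh Dsh] [IsScalarTower Ash Csh Dsh]
    (hAB : ∀ a, algebraMap Ash Bsh (algebraMap A Ash a) = algebraMap B Bsh (algebraMap A B a))
    (hAC : ∀ a, algebraMap Ash Csh (algebraMap A Ash a) = algebraMap C Csh (algebraMap A C a))
    (hB : ∀ b, algebraMap Bsh Dsh (algebraMap B Bsh b) = algebraMap O Dsh (algebraMap (B ⊗[A] C) O (b ⊗ₜ 1)))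
    (hC : ∀ c, algebraMap Csh Dsh (algebraMap C Csh c) = algebraMap O Dsh (algebraMap (B ⊗[A] C) O (1 ⊗ₜ c))) :
    Function.Bijective (Algebra.TensorProduct.lift (IsScalarTower.toAlgHom Ash Bsh Dsh)
      (IsScalarTower.toAlgHom Ash Csh Dsh) (fun _ _ => Commute.all _ _)) := by
  haveI := SHTensor.isLocalization_self A
  haveI := SHTensor.isLocalization_self B
  haveI := SHTensor.isLocalization_self C
  obtain ⟨_, _, _, _⟩ := exists_localization_algebra (maximalIdeal A) A Ash
  obtain ⟨_, _, _, _⟩ := exists_localization_algebra (maximalIdeal B) B Bsh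
  obtain ⟨_, _, _, _⟩ := exists_localization_algebra (maximalIdeal C) C Csh
  letI : Algebra (B ⊗[A] C) Dsh := ((algebraMap O Dsh).comp (algebraMap (B ⊗[A] C) O)).toAlgebra
  haveI : IsScalarTower (B ⊗[A] C) O Dsh := IsScalarTower.of_algebraMap_eq fun _ => rfl
  obtain ⟨_, _, _, _⟩ := exists_localization_algebra pD O Dsh
  letI : Algebra A Bsh := ((algebraMap B Bsh).comp (algebraMap A B)).toAlgebra
  haveI : IsScalarTower A B Bsh := IsScalarTower.of_algebraMap_eq fun _ => rfl
  haveI : IsScalarTower A Ash Bsh := IsScalarTower.of_algebraMap_eq fun a => (hAB a).symm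
  letI : Algebra A Csh := ((algebraMap C Csh).comp (algebraMap A C)).toAlgebra
  haveI : IsScalarTower A C Csh := IsScalarTower.of_algebraMap_eq fun _ => rfl
  haveI : IsScalarTower A Ash Csh := IsScalarTower.of_algebraMap_eq fun a => (hAC a).symm
  letI : Algebra B Dsh := ((algebraMap Bsh Dsh).comp (algebraMap B Bsh)).toAlgebra
  haveI : IsScalarTower B Bsh Dsh := IsScalarTower.of_algebraMap_eq fun _ => rfl
  haveI : IsScalarTower B (B ⊗[A] C) Dsh := IsScalarTower.of_algebraMap_eq fun b => hB b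
  exact SHTensor.bijective_lift_of_isIntegral A B C (maximalIdeal A) (maximalIdeal B) (maximalIdeal C) pD Ash Bsh Csh
    Dsh hC

/-- Cancellation in the variety of vanishing cycles. -/
theorem nonempty_vcRing_equiv {RS RS' RX RX' Ω : Type u} [CommRing RS] [CommRing RS'] [CommRing RX] [CommRing RX']
    [CommRing Ω] [Algebra RS RS'] [Algebra RS RX] [Algebra RS' RX'] [Algebra RX RX'] [Algebra RS RX']
    [IsScalarTower RS RS' RX'] [IsScalarTower RS RX RX'] [Algebra RS' Ω] [Algebra RS Ω] [IsScalarTower RS RS' Ω]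
    (h : Function.Bijective (Algebra.TensorProduct.lift (IsScalarTower.toAlgHom RS RS' RX')
      (IsScalarTower.toAlgHom RS RX RX') (fun _ _ => Commute.all _ _))) :
    Nonempty (EtRest.vcRing RS' RX' Ω ≃+* EtRest.vcRing RS RX Ω) := by
  let θ : RS' ⊗[RS] RX →ₐ[RS'] RX' :=
    { toRingHom := (Algebra.TensorProduct.lift (IsScalarTower.toAlgHom RS RS' RX')
        (IsScalarTower.toAlgHom RS RX RX') (fun _ _ => Commute.all _ _)).toRingHom
      commutes' := fun r => by
        show Algebra.TensorProduct.lift (IsScalarTower.toAlgHom RS RS' RX')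
          (IsScalarTower.toAlgHom RS RX RX') (fun _ _ => Commute.all _ _) (r ⊗ₜ (1 : RX)) = algebraMap RS' RX' r
        simp }
  let eθ : RS' ⊗[RS] RX ≃ₐ[RS'] RX' := AlgEquiv.ofBijective θ h
  exact ⟨(Algebra.TensorProduct.comm RS' RX' Ω).toRingEquiv.trans
    (((Algebra.TensorProduct.congr (AlgEquiv.refl (R := RS') (A₁ := Ω)) eθ.symm).trans
      ((Algebra.TensorProduct.cancelBaseChange RS RS' RS' Ω RX))).toRingEquiv.trans
        (Algebra.TensorProduct.comm RS Ω RX).toRingEquiv)⟩

theorem nonempty_H_const_equiv {W V : Scheme.{u}} (e : W ⟶ V) [IsIso e] (M : Type) [AddCommGroup M] (q : ℕ) :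
    Nonempty (EtCoh.H V (EtCoh.const V M) q ≃+ EtCoh.H W (EtCoh.const W M) q) := by
  obtain ⟨ε⟩ := EtVanish.nonempty_H_push_equiv e (EtCoh.const W M) q
  obtain ⟨c⟩ := CdpLib.nonempty_push_const_iso e M
  exact ⟨((Sheaf.functorH _ q).mapIso c).symm.addCommGroupIsoToAddEquiv.trans ε⟩

/-- Local acyclicity for constant coefficients is preserved by base changes along which strict local maps are
integral. -/
theorem isLocallyAcyclic_baseChange {X S S' X' : Scheme.{u}} {f : X ⟶ S} {g : S' ⟶ S} {f' : X' ⟶ S'} {g' : X' ⟶ X}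
    (h : IsPullback g' f' f g)
    (hchart : ∀ s' : S', ∃ (U : S.Opens) (U' : S'.Opens) (e : U' ≤ g ⁻¹ᵁ U), IsAffineOpen U ∧ IsAffineOpen U' ∧
      s' ∈ U' ∧ IsIndQuasiFinite (g.appLE U U' e).hom)
    (hf : EtRest.IsLocallyAcyclic f) : EtRest.IsLocallyAcyclic f' := by
  intro x' RS' RX' _ _ _ _ _ _ _ _ _ _ _ _ hc Ω _ _ _ n hn
  let x := g' x'
  let A := S.presheaf.stalk (f x)
  let B := S'.presheaf.stalk (f' x')
  let C := X.presheaf.stalk x
  let O := X'.presheaf.stalk x'
  have hs' : g (f' x') = f x := by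
    show g (f' x') = f (g' x')
    rw [← Scheme.Hom.comp_apply, ← Scheme.Hom.comp_apply, h.w]
  let αB : A ⟶ B := (S.presheaf.stalkCongr (Inseparable.of_eq hs'.symm)).hom ≫ g.stalkMap (f' x')
  let αC : A ⟶ C := f.stalkMap x
  have eB : Spec.map αB ≫ S.fromSpecStalk (f x) = S'.fromSpecStalk (f' x') ≫ g :=
    specMap_congr_fromSpecStalk hs' (g.stalkMap (f' x')) _ (Scheme.SpecMap_stalkMap_fromSpecStalk g)
  have eC : Spec.map αC ≫ S.fromSpecStalk (f x) = X.fromSpecStalk x ≫ f := Scheme.SpecMap_stalkMap_fromSpecStalk f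
  have hcomm : αB ≫ f'.stalkMap x' = αC ≫ g'.stalkMap x' := Spec.map_injective (by
    refine (cancel_mono (S.fromSpecStalk (f x))).1 ?_
    rw [Spec.map_comp αB, Spec.map_comp αC, Category.assoc, Category.assoc, eB, eC, ← Category.assoc,
      ← Category.assoc, Scheme.SpecMap_stalkMap_fromSpecStalk f', Scheme.SpecMap_stalkMap_fromSpecStalk g',
      Category.assoc, Category.assoc, h.w])
  -- strict henselisations downstairs
  haveI hX' : Hensel.IsStrictHenselization (X'.presheaf.stalk x') RX' := inferInstance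
  haveI hS' : Hensel.IsStrictHenselization (S'.presheaf.stalk (f' x')) RS' := inferInstanceAs (Hensel.IsStrictHenselization (S'.presheaf.stalk (f'.base x')) RS')
  haveI : HenselianLocalRing RX' := hX'.henselian
  haveI : IsSepClosed (ResidueField RX') := hX'.isSepClosure.sep_closed
  haveI : HenselianLocalRing RS' := hS'.henselian
  haveI : IsSepClosed (ResidueField RS') := hS'.isSepClosure.sep_closed
  obtain ⟨RS, _, _, _, _, hRS⟩ := Groth.Agent.S0537.result (S.presheaf.stalk (f x))
  obtain ⟨RX, _, _, _, _, hRX⟩ := Groth.Agent.S0537.result (X.presheaf.stalk x)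
  haveI : IsLocalHom αB.hom := by
    haveI : IsLocalHom (g.stalkMap (f' x')).hom := inferInstance
    show IsLocalHom ((g.stalkMap (f' x')).hom.comp (S.presheaf.stalkCongr (Inseparable.of_eq hs'.symm)).hom.hom)
    exact RingHom.isLocalHom_comp _ _
  haveI : IsLocalHom αC.hom := inferInstanceAs (IsLocalHom (f.stalkMap x).hom)
  haveI : IsLocalHom (g'.stalkMap x').hom := inferInstance
  haveI : IsLocalHom ((algebraMap (X'.presheaf.stalk x') RX').comp (g'.stalkMap x').hom) := RingHom.isLocalHom_comp _ _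
  obtain ⟨σ, hσ, hσl⟩ := exists_map_to_henselian (RA := RX)
    ((algebraMap (X'.presheaf.stalk x') RX').comp (g'.stalkMap x').hom)
  haveI : IsLocalHom ((algebraMap (S'.presheaf.stalk (f' x')) RS').comp αB.hom) := RingHom.isLocalHom_comp _ _
  obtain ⟨k₀, hk₀, hk₀l⟩ := exists_map_to_henselian (RA := RS)
    ((algebraMap (S'.presheaf.stalk (f' x')) RS').comp αB.hom)
  haveI := hσl
  haveI := hk₀l
  haveI : IsLocalHom ((algebraMap RS' RX').comp k₀) := RingHom.isLocalHom_comp _ _
  obtain ⟨ψ, hψ, hψl, hψσ⟩ := exists_map_factor (RA := RS) (RB := RX) αC.hom σ ((algebraMap RS' RX').comp k₀) (by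
    rw [RingHom.comp_assoc, hk₀, ← RingHom.comp_assoc, hσ, RingHom.comp_assoc]
    refine (congrArg (fun r => RingHom.comp r αB.hom) hc).trans ?_
    rw [RingHom.comp_assoc]
    exact congrArg (fun m : A ⟶ O => (algebraMap (X'.presheaf.stalk x') RX').comp m.hom) hcomm)
  letI : Algebra RS RX := ψ.toAlgebra
  haveI : IsLocalHom (algebraMap RS RX) := hψl
  letI : Algebra RX RX' := σ.toAlgebra
  haveI : IsLocalHom (algebraMap RX RX') := hσl
  letI : Algebra RS RS' := k₀.toAlgebra
  haveI : IsLocalHom (algebraMap RS RS') := hk₀l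
  letI : Algebra RS RX' := ((algebraMap RS' RX').comp k₀).toAlgebra
  haveI : IsScalarTower RS RS' RX' := IsScalarTower.of_algebraMap_eq fun _ => rfl
  haveI : IsScalarTower RS RX RX' := IsScalarTower.of_algebraMap_eq fun a => (RingHom.congr_fun hψσ a).symm
  letI : Algebra RS Ω := ((algebraMap RS' Ω).comp k₀).toAlgebra
  haveI : IsScalarTower RS RS' Ω := IsScalarTower.of_algebraMap_eq fun _ => rfl
  haveI : Algebra.IsIntegral RS RS' :=
    isIntegral_strict_of_chart' g (f' x') (f x) hs' (hchart (f' x')) RS RS' hk₀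
  -- the local ring upstairs
  letI : Algebra (S.presheaf.stalk (f x)) (S'.presheaf.stalk (f' x')) := αB.hom.toAlgebra
  letI : Algebra (S.presheaf.stalk (f x)) (X.presheaf.stalk x) := αC.hom.toAlgebra
  letI : Algebra (S.presheaf.stalk (f x)) (X'.presheaf.stalk x') := (αB ≫ f'.stalkMap x').hom.toAlgebra
  let lB : S'.presheaf.stalk (f' x') →ₐ[S.presheaf.stalk (f x)] X'.presheaf.stalk x' :=
    ⟨(f'.stalkMap x').hom, fun _ => rfl⟩
  let lC : X.presheaf.stalk x →ₐ[S.presheaf.stalk (f x)] X'.presheaf.stalk x' :=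
    ⟨(g'.stalkMap x').hom, fun a => (congrArg (fun m : A ⟶ O => m.hom a) hcomm).symm⟩
  let Φ := Algebra.TensorProduct.lift lB lC fun _ _ => Commute.all _ _
  letI : Algebra (S'.presheaf.stalk (f' x') ⊗[S.presheaf.stalk (f x)] X.presheaf.stalk x) (X'.presheaf.stalk x') :=
    Φ.toRingHom.toAlgebra
  have hl : ∀ b, Φ (b ⊗ₜ 1) = (f'.stalkMap x').hom b := fun b => by simp [Φ, lB]
  have hr : ∀ c, Φ (1 ⊗ₜ c) = (g'.stalkMap x').hom c := fun c => by simp [Φ, lC]; rfl
  haveI := isLocalization_stalk_pullback h x' (f x) rfl hs' (RingHom.algebraMap_toAlgebra αB.hom)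
    ((RingHom.algebraMap_toAlgebra αC.hom).trans (by simp [αC, TopCat.Presheaf.stalkCongr]; try rfl)) hl hr
  have hbij := bijective_lift_strict (S.presheaf.stalk (f x)) (S'.presheaf.stalk (f' x')) (X.presheaf.stalk x)
    ((maximalIdeal (X'.presheaf.stalk x')).comap
      (algebraMap (S'.presheaf.stalk (f' x') ⊗[S.presheaf.stalk (f x)] X.presheaf.stalk x) (X'.presheaf.stalk x')))
    (X'.presheaf.stalk x') RS RS' RX RX'
    (fun a => RingHom.congr_fun hk₀ a) (fun a => RingHom.congr_fun hψ a)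
    (fun b => (RingHom.congr_fun hc b).trans (congrArg (algebraMap (X'.presheaf.stalk x') RX') (hl b)).symm)
    (fun c => (RingHom.congr_fun hσ c).trans (congrArg (algebraMap (X'.presheaf.stalk x') RX') (hr c)).symm)
  obtain ⟨e⟩ := nonempty_vcRing_equiv (Ω := Ω) hbij
  -- residue characteristics
  have hnx : (n : X.residueField x) ≠ 0 := fun h0 => hn (by
    rw [← map_natCast (g'.residueFieldMap x').hom n, h0, map_zero])
  obtain ⟨hq, ⟨h0⟩⟩ := hf x RS RX hψ Ω n hnx
  let E : Spec (CommRingCat.of (EtRest.vcRing RS' RX' Ω)) ⟶ Spec (CommRingCat.of (EtRest.vcRing RS RX Ω)) :=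
    Spec.map (CommRingCat.ofHom e.symm.toRingHom)
  haveI : IsIso E := by
    haveI : IsIso (CommRingCat.ofHom e.symm.toRingHom) := inferInstanceAs (IsIso e.symm.toCommRingCatIso.hom)
    infer_instance
  refine ⟨fun q hq0 => ?_, ?_⟩
  · obtain ⟨ε⟩ := nonempty_H_const_equiv E (ZMod n) q
    exact @Equiv.subsingleton _ _ ε.symm.toEquiv (hq q hq0)
  · obtain ⟨ε⟩ := nonempty_H_const_equiv E (ZMod n) 0
    exact ⟨ε.symm.trans h0⟩

end Groth.Agent.SHBaseChangeLib
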