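import Mathlib.AlgebraicGeometry.Morphisms.Preimmersion
import Mathlib.AlgebraicGeometry.Pullbacks
import Mathlib.AlgebraicGeometry.Stalk

/-!
The local rings of a fibre product are localisations of tensor products of local rings.
-/

set_option autoImplicit false
set_option backward.isDefEq.respectTransparency false
set_option backward.isDefEq.respectTransparency.types false
set_option linter.style.haveILetI false
set_option maxHeartbeats 1000000

universe u

open CategoryTheory CategoryTheory.Limits AlgebraicGeometry IsLocalRing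
open scoped TensorProduct

namespace Groth.Agent.SHBaseChangeLib

theorem specMap_congr_fromSpecStalk {Y : Scheme.{u}} {y z : Y} (e : y = z) {R : CommRingCat.{u}}
    (a : Y.presheaf.stalk y ⟶ R) (m : Spec R ⟶ Y) (ha : Spec.map a ≫ Y.fromSpecStalk y = m) :
    Spec.map ((Y.presheaf.stalkCongr (Inseparable.of_eq e.symm)).hom ≫ a) ≫ Y.fromSpecStalk z = m := by
  subst e
  rw [← ha]
  simp [TopCat.Presheaf.stalkCongr]

/-- If `Spec A → S`, `Spec B → S'`, `Spec C → X` are monomorphisms compatible with a cartesian square, and the stalk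
at `x'` receives `B ⊗[A] C` compatibly, the stalk is the localisation of `B ⊗[A] C` at the pullback of its maximal
ideal. -/
theorem isLocalization_generic {X S S' X' : Scheme.{u}} {f : X ⟶ S} {g : S' ⟶ S} {f' : X' ⟶ S'} {g' : X' ⟶ X}
    (h : IsPullback g' f' f g) (A B C : Type u) [CommRing A] [CommRing B] [CommRing C] [Algebra A B] [Algebra A C]
    (ιA : Spec (CommRingCat.of A) ⟶ S) [Mono ιA] (ιB : Spec (CommRingCat.of B) ⟶ S') [Mono ιB]
    (ιC : Spec (CommRingCat.of C) ⟶ X) [Mono ιC]
    (eB : Spec.map (CommRingCat.ofHom (algebraMap A B)) ≫ ιA = ιB ≫ g)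
    (eC : Spec.map (CommRingCat.ofHom (algebraMap A C)) ≫ ιA = ιC ≫ f)
    (x' : X') [Algebra (B ⊗[A] C) (X'.presheaf.stalk x')]
    (hφB : Spec.map (CommRingCat.ofHom
        ((algebraMap (B ⊗[A] C) (X'.presheaf.stalk x')).comp Algebra.TensorProduct.includeLeftRingHom)) ≫ ιB =
      X'.fromSpecStalk x' ≫ f')
    (hφC : Spec.map (CommRingCat.ofHom
        ((algebraMap (B ⊗[A] C) (X'.presheaf.stalk x')).comp
          (Algebra.TensorProduct.includeRight : C →ₐ[A] B ⊗[A] C).toRingHom)) ≫ ιC =
      X'.fromSpecStalk x' ≫ g') :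
    IsLocalization.AtPrime (X'.presheaf.stalk x')
      ((maximalIdeal (X'.presheaf.stalk x')).comap (algebraMap (B ⊗[A] C) (X'.presheaf.stalk x'))) := by
  let φ₀ : B ⊗[A] C →+* X'.presheaf.stalk x' := algebraMap (B ⊗[A] C) (X'.presheaf.stalk x')
  let P : Ideal (B ⊗[A] C) := (maximalIdeal (X'.presheaf.stalk x')).comap φ₀
  let D : CommRingCat.{u} := CommRingCat.of (B ⊗[A] C)
  let p : Spec D ⟶ Spec (CommRingCat.of B) :=
    Spec.map (CommRingCat.ofHom Algebra.TensorProduct.includeLeftRingHom)
  let q : Spec D ⟶ Spec (CommRingCat.of C) :=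
    Spec.map (CommRingCat.ofHom (Algebra.TensorProduct.includeRight : C →ₐ[A] B ⊗[A] C).toRingHom)
  have hA : IsPullback p q (Spec.map (CommRingCat.ofHom (algebraMap A B)))
      (Spec.map (CommRingCat.ofHom (algebraMap A C))) := isPullback_SpecMap_of_isPushout _ _ _ _ <|
    CommRingCat.isPushout_tensorProduct A B C
  have w : p ≫ ιB ≫ g = q ≫ ιC ≫ f := by rw [← eB, ← eC, reassoc_of% hA.w]
  let j : Spec D ⟶ X' := h.lift (q ≫ ιC) (p ≫ ιB) (by rw [Category.assoc, Category.assoc, w])
  haveI : Mono j := ⟨fun {Z} a b e => hA.hom_ext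
    ((cancel_mono ιB).1 (by
      have := congrArg (· ≫ f') e
      simpa [j] using this))
    ((cancel_mono ιC).1 (by
      have := congrArg (· ≫ g') e
      simpa [j] using this))⟩
  let φ : D ⟶ X'.presheaf.stalk x' := CommRingCat.ofHom φ₀
  have hφj : Spec.map φ ≫ j = X'.fromSpecStalk x' := by
    refine h.hom_ext ?_ ?_
    · simp only [j, Category.assoc, IsPullback.lift_fst, q]
      rw [← Category.assoc, ← Spec.map_comp]
      exact hφC
    · simp only [j, Category.assoc, IsPullback.lift_snd, p]
      rw [← Category.assoc, ← Spec.map_comp]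
      exact hφB
  -- the lift to the localisation
  have hu : ∀ d : P.primeCompl, IsUnit (φ₀ d) := fun d => notMem_maximalIdeal.1 d.2
  let L := Localization.AtPrime P
  let φL : L →+* X'.presheaf.stalk x' := IsLocalization.lift hu
  have hφL : φL.comp (algebraMap _ L) = φ₀ := IsLocalization.lift_comp hu
  let lD : D ⟶ CommRingCat.of L := CommRingCat.ofHom (algebraMap (B ⊗[A] C) L)
  haveI : Mono (Spec.map lD) :=
    haveI : Epi lD := ⟨fun {Z} a b e => CommRingCat.hom_ext
      (IsLocalization.ringHom_ext P.primeCompl (congrArg CommRingCat.Hom.hom e))⟩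
    inferInstanceAs (Mono (Scheme.Spec.map lD.op))
  let k : Spec (CommRingCat.of L) ⟶ X' := Spec.map lD ≫ j
  haveI : IsLocalHom φL := ⟨fun a ha => by
    obtain ⟨d, s, rfl⟩ := IsLocalization.exists_mk'_eq P.primeCompl a
    have hd : IsUnit (φ₀ d) := by
      have := congrArg φL (IsLocalization.mk'_spec L d s)
      rw [map_mul, ← RingHom.comp_apply φL, ← RingHom.comp_apply φL, hφL] at this
      rw [← this]
      exact ha.mul (hu s)
    exact (IsLocalization.AtPrime.isUnit_mk'_iff L P d s).2 (notMem_maximalIdeal.2 hd)⟩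
  have hk : Spec.map (CommRingCat.ofHom φL) ≫ k = X'.fromSpecStalk x' := by
    simp only [k, lD]
    rw [← Category.assoc, ← Spec.map_comp, ← CommRingCat.ofHom_comp, hφL]
    exact hφj
  have hkt : k (closedPoint L) = x' := by
    have h1 := congrArg (fun m => m (closedPoint (X'.presheaf.stalk x'))) hk
    simp only [Scheme.Hom.comp_apply] at h1
    rw [show Spec.map (CommRingCat.ofHom φL) (closedPoint (X'.presheaf.stalk x')) = closedPoint L from
      IsLocalRing.comap_closedPoint φL] at h1
    exact h1.trans Scheme.fromSpecStalk_closedPoint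
  let σ : X'.presheaf.stalk x' ⟶ CommRingCat.of L :=
    (X'.presheaf.stalkCongr (Inseparable.of_eq hkt.symm)).hom ≫ Scheme.stalkClosedPointTo k
  have hσ : Spec.map σ ≫ X'.fromSpecStalk x' = k := by
    exact specMap_congr_fromSpecStalk hkt (Scheme.stalkClosedPointTo k) _ (Scheme.Spec_stalkClosedPointTo_fromSpecStalk k)
  haveI : Mono k := mono_comp _ _
  have e1 : CommRingCat.ofHom φL ≫ σ = 𝟙 _ := Spec.map_injective (by
    rw [Spec.map_comp, Spec.map_id, ← cancel_mono k, Category.assoc, hk, hσ, Category.id_comp])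
  have e2 : σ ≫ CommRingCat.ofHom φL = 𝟙 _ := Spec.map_injective (by
    rw [Spec.map_comp, Spec.map_id, ← cancel_mono (X'.fromSpecStalk x'), Category.assoc, hσ, hk]
    exact (Category.id_comp _).symm)
  let e : L ≃ₐ[B ⊗[A] C] X'.presheaf.stalk x' :=
    AlgEquiv.ofBijective ⟨φL, fun d => RingHom.congr_fun hφL d⟩
      ⟨Function.LeftInverse.injective (g := σ.hom) fun a => congrArg (fun m => m.hom a) e1,
        Function.RightInverse.surjective (g := σ.hom) fun a => congrArg (fun m => m.hom a) e2⟩
  exact IsLocalization.isLocalization_of_algEquiv P.primeCompl e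

/-- The local ring of a fibre product at `x'` is the localisation of the tensor product of the local rings of the
factors at the pullback of the maximal ideal. -/
theorem isLocalization_stalk_pullback {X S S' X' : Scheme.{u}} {f : X ⟶ S} {g : S' ⟶ S} {f' : X' ⟶ S'} {g' : X' ⟶ X}
    (h : IsPullback g' f' f g) (x' : X') (s : S) (hs : f (g' x') = s) (hs' : g (f' x') = s)
    [Algebra (S.presheaf.stalk s) (S'.presheaf.stalk (f' x'))] [Algebra (S.presheaf.stalk s) (X.presheaf.stalk (g' x'))]
    (hB : algebraMap (S.presheaf.stalk s) (S'.presheaf.stalk (f' x')) =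
      ((S.presheaf.stalkCongr (Inseparable.of_eq hs'.symm)).hom ≫ g.stalkMap (f' x')).hom)
    (hC : algebraMap (S.presheaf.stalk s) (X.presheaf.stalk (g' x')) =
      ((S.presheaf.stalkCongr (Inseparable.of_eq hs.symm)).hom ≫ f.stalkMap (g' x')).hom)
    [Algebra (S'.presheaf.stalk (f' x') ⊗[S.presheaf.stalk s] X.presheaf.stalk (g' x')) (X'.presheaf.stalk x')]
    (hl : ∀ b, algebraMap (S'.presheaf.stalk (f' x') ⊗[S.presheaf.stalk s] X.presheaf.stalk (g' x'))
      (X'.presheaf.stalk x') (b ⊗ₜ 1) = (f'.stalkMap x').hom b)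
    (hr : ∀ c, algebraMap (S'.presheaf.stalk (f' x') ⊗[S.presheaf.stalk s] X.presheaf.stalk (g' x'))
      (X'.presheaf.stalk x') (1 ⊗ₜ c) = (g'.stalkMap x').hom c) :
    IsLocalization.AtPrime (X'.presheaf.stalk x')
      ((maximalIdeal (X'.presheaf.stalk x')).comap
        (algebraMap (S'.presheaf.stalk (f' x') ⊗[S.presheaf.stalk s] X.presheaf.stalk (g' x')) (X'.presheaf.stalk x'))) := by
  refine isLocalization_generic h (S.presheaf.stalk s) (S'.presheaf.stalk (f' x')) (X.presheaf.stalk (g' x'))
    (S.fromSpecStalk s) (S'.fromSpecStalk (f' x')) (X.fromSpecStalk (g' x')) ?_ ?_ x' ?_ ?_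
  · rw [hB, CommRingCat.ofHom_hom]
    exact specMap_congr_fromSpecStalk hs' (g.stalkMap (f' x')) _ (Scheme.SpecMap_stalkMap_fromSpecStalk g)
  · rw [hC, CommRingCat.ofHom_hom]
    exact specMap_congr_fromSpecStalk hs (f.stalkMap (g' x')) _ (Scheme.SpecMap_stalkMap_fromSpecStalk f)
  · exact (congrArg (fun m => Spec.map m ≫ _) (CommRingCat.hom_ext (RingHom.ext fun b => hl b))).trans
      (Scheme.SpecMap_stalkMap_fromSpecStalk _)
  · exact (congrArg (fun m => Spec.map m ≫ _) (CommRingCat.hom_ext (RingHom.ext fun b => hr b))).trans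
      (Scheme.SpecMap_stalkMap_fromSpecStalk _)

end Groth.Agent.SHBaseChangeLib
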